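import Cfsg.Agent.Lib.LocalEvenB.HSUnitary.Data
import Cfsg.Agent.Lib.LocalEvenB.UnitaryFive.Check
import Cfsg.Agent.Lib.Sporadic.ConwayConfigs

/-!
# The checks of the tables
-/

set_option autoImplicit false
set_option maxRecDepth 100000
set_option Elab.async false

namespace CfsgLib.LocalEvenB.HSUnitary

open CfsgLib.Sporadic.Conway CfsgLib.LocalEvenB.UnitaryFive Cfsg CfsgLib.ThreeTrans.Leech
  CfsgLib.Sporadic.Lattice

/-- The permutation table of a generator. -/
def permTab (k : ℕ) : List ℕ := [permA, permB, permC].getD k []

/-- The transition table of a generator. -/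
def transTab (k : ℕ) : List ℕ := [transA, transB, transC].getD k []

/-- The word of a generator. -/
def wordTab (k : ℕ) : List (ℕ × ℕ) := [wordA, wordB, wordC].getD k []

/-- The matrix of a generator. -/
def matTab (k : ℕ) : ℕ := [genA, genB, genC].getD k 0

/-- One transition between cosets. -/
def transOK (k i : ℕ) : Bool :=
  let t := (transTab k).getD i 0
  let j := t / 3 / 2520
  decide (j < 50) && j == (permTab k).getD i 0 &&
    okMul (reps.getD j 0) (look keysChunks (t / 3 % 2520)) (t % 3)
      (pack (mulEnt (matTab k) (reps.getD i 0)) 9)

theorem trans_ok :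
    ((List.range 3).all fun k => (List.range 50).all fun i => transOK k i) = true := by
  decide +kernel

theorem reps_ok : ((List.range 50).all fun i => genOK (reps.getD i 0)) = true := by decide +kernel

theorem mats_ok : ((List.range 3).all fun k => genOK (matTab k)) = true := by decide +kernel

theorem root_rep : reps.getD 0 0 = look keysChunks 102 := by decide +kernel

theorem genC_not_key : (keysChunks.all fun l => l.all fun k =>
    k != scale 0 genC && k != scale 1 genC && k != scale 2 genC) = true := by
  decide +kernel

/-- The parent relation is a tree towards zero. -/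
def parentOK (i : ℕ) : Bool :=
  i == 0 || (let p := parent.getD i 0
    decide (p / 16 < i) && decide (p % 16 < 3) && ((permTab (p % 16)).getD (p / 16) 0 == i))

theorem parent_ok : ((List.range 50).all parentOK) = true := by decide +kernel

theorem perm_lt : ((List.range 3).all fun k => (List.range 50).all fun i =>
    decide ((permTab k).getD i 0 < 50)) = true := by decide +kernel

theorem words_valid : ((List.range 3).all fun k => (wordTab k).all stepValid &&
    [kFive, kHs, kRoot].all fun f => decide (evalWord (wordTab k) f = some f)) = true := by
  decide +kernel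

theorem word_zero : ((List.range 50).all fun i =>
    decide (evalWord (wordTab 0) (pts.getD i 0) = some (pts.getD ((permTab 0).getD i 0) 0))) = true := by
  decide +kernel

theorem word_one : ((List.range 50).all fun i =>
    decide (evalWord (wordTab 1) (pts.getD i 0) = some (pts.getD ((permTab 1).getD i 0) 0))) = true := by
  decide +kernel

theorem word_two : ((List.range 50).all fun i =>
    decide (evalWord (wordTab 2) (pts.getD i 0) = some (pts.getD ((permTab 2).getD i 0) 0))) = true := by
  decide +kernel

theorem pts_nodup : ((List.range 50).map fun i => pts.getD i 0).Nodup ∧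
    ((List.range 50).all fun i => decide (pts.getD i 0 < 2 ^ 96)) = true := by
  decide +kernel

theorem pts_spec : ∀ i < 50, LTest (pv (pts.getD i 0)) ∧ sqNorm (pv (pts.getD i 0)) = 32 ∧
    dotInt (pv kFive) (pv (pts.getD i 0)) = 24 ∧ dotInt (pv kHs) (pv (pts.getD i 0)) = -24 ∧
      dotInt (pv kRoot) (pv (pts.getD i 0)) = 16 := by
  decide +kernel

theorem pts_count : (hsHundredTree.entries.filter fun e =>
    [(kRoot, (16 : ℤ))].all fun q => decide (dotInt (pv q.1) (pv e.1) = q.2)).length = 50 := by
  decide +kernel

theorem far_ok : orbitOK hsHundredGens [kFive, kHs] kRoot farTree 352 = true :=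
  orbitOK_of (by decide +kernel) (by decide +kernel) (by decide +kernel) (by decide +kernel)

theorem far_count : (coThreeSplitsTree.entries.filter fun e =>
    [(kHs, (-16 : ℤ))].all fun q => decide (dotInt (pv q.1) (pv e.1) = q.2)).length = 352 := by
  decide +kernel

theorem root_spec : LTest (pv kRoot) ∧ sqNorm (pv kRoot) = 32 ∧
    dotInt (pv kFive) (pv kRoot) = 24 ∧ dotInt (pv kHs) (pv kRoot) = -16 := by
  decide +kernel

end CfsgLib.LocalEvenB.HSUnitary
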