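import Cfsg.Agent.Lib.LocalEvenB.UnitaryFive.Index
import Cfsg.Agent.Lib.LocalEvenB.HSUnitary.Check

/-!
# PSU₃(5) on fifty cosets
-/

set_option autoImplicit false

namespace CfsgLib.LocalEvenB.HSUnitary

open CfsgLib.LocalEvenB.UnitaryFive

/-- A point of a permutation table. -/
def tab (k : ℕ) (hk : k < 3) (i : Fin 50) : Fin 50 :=
  ⟨(permTab k).getD i.val 0, of_decide_eq_true (List.all_eq_true.1
    (List.all_eq_true.1 perm_lt k (List.mem_range.2 hk)) i.val (List.mem_range.2 i.isLt))⟩

theorem rep_genOK (i : Fin 50) : genOK (reps.getD i.val 0) = true :=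
  List.all_eq_true.1 reps_ok i.val (List.mem_range.2 i.isLt)

theorem mat_genOK {k : ℕ} (hk : k < 3) : genOK (matTab k) = true :=
  List.all_eq_true.1 mats_ok k (List.mem_range.2 hk)

variable {F : Type*} [Field F] [Fintype F] [CharP F 5] {s : F} (hs : s ^ 2 = 2)

/-- The class of a representative. -/
def cls (i : Fin 50) : Cfsg.SU 3 F 5 ⧸ grp hs := QuotientGroup.mk (el hs (rep_genOK i))

/-- The generator. -/
def gen {k : ℕ} (hk : k < 3) : Cfsg.SU 3 F 5 := el hs (mat_genOK hk)

theorem gen_cls {k : ℕ} (hk : k < 3) (i : Fin 50) :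
    gen hs hk • cls hs i = cls hs (tab k hk i) := by
  have h := List.all_eq_true.1 (List.all_eq_true.1 trans_ok k (List.mem_range.2 hk)) i.val
    (List.mem_range.2 i.isLt)
  simp only [transOK, Bool.and_eq_true, decide_eq_true_eq, beq_iff_eq] at h
  obtain ⟨⟨-, hj⟩, hok⟩ := h
  set t := (transTab k).getD i.val 0
  have hm : t / 3 % 2520 < 2520 := Nat.mod_lt _ (by norm_num)
  obtain ⟨g, hg, hgm⟩ := exists_elem hs hm 0
  rw [pow_zero, one_smul] at hgm
  have hokM := toM_okMul hs (Nat.mod_lt t (by norm_num)) hok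
  have hprod : toM s (pack (mulEnt (matTab k) (reps.getD i.val 0)) 9) =
      toM s (matTab k) * toM s (reps.getD i.val 0) := by
    ext a b
    rw [toM, Matrix.of_apply, ent_pack _ _ (fun n _ => by unfold mulEnt fadd; omega) _ (by omega),
      mulEnt, dec_fadd hs, dec_fadd hs, dec_fmul hs, dec_fmul hs, dec_fmul hs, Matrix.mul_apply,
      Fin.sum_univ_three, show (3 * a.val + b.val) / 3 = a.val by omega,
      show (3 * a.val + b.val) % 3 = b.val by omega]
    simp [toM]
  rw [hprod] at hokM
  have hj' : el hs (rep_genOK (tab k hk i)) * g =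
      el hs gens_ok.2.2 ^ (t % 3) * (gen hs hk * el hs (rep_genOK i)) := by
    refine mt_inj ?_
    rw [map_mul, map_mul, map_mul, mt_elZ_pow, hgm, gen, mt_el, mt_el, mt_el, smul_mul_assoc,
      one_mul]
    refine Eq.trans ?_ hokM
    rw [key, show t / 3 / 2520 = (permTab k).getD i.val 0 from hj]
    rfl
  have hz : el hs gens_ok.2.2 ^ (t % 3) ∈ grp hs :=
    pow_mem (mem_gens hs gens_ok.2.2 (Or.inr (Or.inr rfl))) _
  have hc : ∀ x : Cfsg.SU 3 F 5, el hs gens_ok.2.2 ^ (t % 3) * x =
      x * el hs gens_ok.2.2 ^ (t % 3) := fun x => mt_inj (by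
    rw [map_mul, map_mul, mt_elZ_pow, smul_mul_assoc, one_mul, mul_smul_comm, mul_one])
  rw [hc] at hj'
  show QuotientGroup.mk (gen hs hk * el hs (rep_genOK i)) = QuotientGroup.mk _
  rw [QuotientGroup.eq]
  have h1 : (gen hs hk * el hs (rep_genOK i))⁻¹ * el hs (rep_genOK (tab k hk i)) =
      el hs gens_ok.2.2 ^ (t % 3) * g⁻¹ := by
    rw [inv_mul_eq_iff_eq_mul, ← mul_assoc, ← hj', mul_inv_cancel_right]
  rw [h1]
  exact mul_mem hz (inv_mem hg)

theorem genC_notMem : gen hs (show 2 < 3 by norm_num) ∉ grp hs := by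
  intro h
  obtain ⟨i, hi, e, he, hm⟩ := exists_word hs _ h
  rw [gen, mt_el] at hm
  change toM s genC = _ at hm
  have h2 : toM s (key i) = toM s (scale ((3 - e) % 3) genC) := by
    rw [toM_scale hs _ _ (Nat.mod_lt _ (by norm_num)),
      ← pow_eq_pow_mod _ (dec_17_pow_three hs), hm, smul_smul, ← pow_add,
      show 3 - e + e = 3 by omega, dec_17_pow_three hs, one_smul]
  have h3 := toM_inj hs (key_lt hi) (pack_lt _ _ fun k _ => fmul_lt _ _) h2
  have hmem : ∀ c, c < 42 → keysChunks.getD c [] ∈ keysChunks := fun c hc => by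
    rw [List.getD_eq_getElem _ _ (show c < keysChunks.length from hc)]
    exact List.getElem_mem _
  have h4 := List.all_eq_true.1 genC_not_key _ (hmem (i / 60) (by omega))
  have hlen : ∀ c < 42, (keysChunks.getD c []).length = 60 := by decide +kernel
  have h5 : key i ∈ keysChunks.getD (i / 60) [] := by
    rw [key, look, List.getD_eq_getElem _ _ (show i % 60 < _ by rw [hlen _ (by omega)]; omega)]
    exact List.getElem_mem _
  have h6 := List.all_eq_true.1 h4 _ h5
  simp only [Bool.and_eq_true, bne_iff_ne] at h6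
  have := Nat.mod_lt (3 - e) (show 3 > 0 by norm_num)
  rcases (show (3 - e) % 3 = 0 ∨ (3 - e) % 3 = 1 ∨ (3 - e) % 3 = 2 by omega) with r | r | r <;>
    rw [r] at h3
  exacts [h6.1.1 h3, h6.1.2 h3, h6.2 h3]

/-- The subgroup generated by the three generators and the scalars. -/
def top' : Subgroup (Cfsg.SU 3 F 5) :=
  Subgroup.closure {gen hs (show 0 < 3 by norm_num), gen hs (show 1 < 3 by norm_num),
    gen hs (show 2 < 3 by norm_num), el hs gens_ok.2.2}

theorem top'_eq (hF : Fintype.card F = 25) : top' hs = ⊤ := by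
  have hle : grp hs ≤ top' hs := by
    refine (Subgroup.closure_le _).2 ?_
    rintro x (rfl | rfl | rfl) <;> refine Subgroup.subset_closure ?_
    · exact Or.inl rfl
    · exact Or.inr (Or.inl rfl)
    · exact Or.inr (Or.inr (Or.inr rfl))
  by_contra hne
  have h50 := fifty_le_index hF _ ((center_le_grp hs (card_center hF)).trans hle) hne
  have hC : gen hs (show 2 < 3 by norm_num) ∈ top' hs :=
    Subgroup.subset_closure (Or.inr (Or.inr (Or.inl rfl)))
  have hlt : grp hs < top' hs := lt_of_le_of_ne hle fun h => genC_notMem hs (h ▸ hC)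
  have := Subgroup.index_strictAnti hlt
  rw [index_grp hs hF] at this
  omega

theorem cls_bijective (hF : Fintype.card F = 25) : Function.Bijective (cls hs) := by
  have hsurj : Function.Surjective (cls hs) := by
    intro q
    obtain ⟨x, rfl⟩ := QuotientGroup.mk_surjective q
    have hx : x ∈ top' hs := by rw [top'_eq hs hF]; trivial
    have key' : ∀ y ∈ top' hs, ∀ i, ∃ j, y • cls hs i = cls hs j := by
      intro y hy
      rw [top', ← Subgroup.mem_toSubmonoid, Subgroup.closure_toSubmonoid_of_finite] at hy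
      induction hy using Submonoid.closure_induction with
      | mem z hz =>
        intro i
        rcases hz with rfl | rfl | rfl | rfl
        · exact ⟨_, gen_cls hs _ i⟩
        · exact ⟨_, gen_cls hs _ i⟩
        · exact ⟨_, gen_cls hs _ i⟩
        · refine ⟨i, ?_⟩
          show QuotientGroup.mk (el hs gens_ok.2.2 * el hs (rep_genOK i)) = QuotientGroup.mk _
          rw [QuotientGroup.eq]
          have hc : el hs gens_ok.2.2 * el hs (rep_genOK i) =
              el hs (rep_genOK i) * el hs gens_ok.2.2 := mt_inj (by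
            rw [map_mul, map_mul, mt_el hs gens_ok.2.2, toM_genZ hs, smul_mul_assoc, one_mul,
              mul_smul_comm, mul_one])
          rw [hc, mul_inv_rev, inv_mul_cancel_right]
          exact inv_mem (mem_gens hs gens_ok.2.2 (Or.inr (Or.inr rfl)))
      | one => exact fun i => ⟨i, one_smul _ _⟩
      | mul a b _ _ iha ihb =>
        intro i
        obtain ⟨j, hj⟩ := ihb i
        obtain ⟨l, hl⟩ := iha j
        exact ⟨l, by rw [mul_smul, hj, hl]⟩
    obtain ⟨j, hj⟩ := key' x hx 0
    refine ⟨j, hj.symm.trans ?_⟩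
    show QuotientGroup.mk (x * el hs (rep_genOK 0)) = QuotientGroup.mk x
    rw [QuotientGroup.eq]
    have h0 : el hs (rep_genOK 0) = 1 := mt_inj (by
      rw [mt_el, map_one, show reps.getD (0 : Fin 50).val 0 = key 102 from root_rep, toM_root hs])
    rw [h0, mul_one, inv_mul_cancel]
    exact one_mem _
  have h1 : Nat.card (Cfsg.SU 3 F 5 ⧸ grp hs) = Nat.card (Fin 50) := by
    rw [Nat.card_fin]
    exact index_grp hs hF
  exact hsurj.bijective_of_nat_card_le h1.ge

/-- The permutation representation on fifty points. -/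
noncomputable def act (hF : Fintype.card F = 25) : Cfsg.SU 3 F 5 →* Equiv.Perm (Fin 50) :=
  (Equiv.permCongrHom (Equiv.ofBijective (cls hs) (cls_bijective hs hF)).symm).toMonoidHom.comp
    (MulAction.toPermHom (Cfsg.SU 3 F 5) (Cfsg.SU 3 F 5 ⧸ grp hs))

theorem act_gen (hF : Fintype.card F = 25) {k : ℕ} (hk : k < 3) (i : Fin 50) :
    act hs hF (gen hs hk) i = tab k hk i := by
  show (Equiv.ofBijective (cls hs) (cls_bijective hs hF)).symm (gen hs hk • cls hs i) = _
  rw [gen_cls, Equiv.ofBijective_symm_apply_apply]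

theorem center_le_ker (hF : Fintype.card F = 25) :
    Subgroup.center (Cfsg.SU 3 F 5) ≤ (act hs hF).ker := by
  intro z hz
  refine MonoidHom.mem_ker.2 (Equiv.ext fun i => ?_)
  show (Equiv.ofBijective (cls hs) (cls_bijective hs hF)).symm (z • cls hs i) = i
  rw [Equiv.symm_apply_eq]
  show QuotientGroup.mk (z * el hs (rep_genOK i)) = QuotientGroup.mk _
  rw [QuotientGroup.eq, ← Subgroup.mem_center_iff.1 hz, mul_inv_rev, inv_mul_cancel_right]
  exact inv_mem (center_le_grp hs (card_center hF) hz)

/-- The representation of the simple quotient. -/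
noncomputable def pact (hF : Fintype.card F = 25) : Cfsg.PSU 3 F 5 →* Equiv.Perm (Fin 50) :=
  QuotientGroup.lift _ (act hs hF) (center_le_ker hs hF)

theorem pact_injective (hF : Fintype.card F = 25) : Function.Injective (pact hs hF) := by
  have : IsSimpleGroup (Cfsg.PSU 3 F 5) :=
    CfsgLib.Classical.Herm.isSimpleGroup_PSU' (show Fintype.card F = 5 ^ 2 from hF) 3 le_rfl
      (by norm_num)
  rcases (MonoidHom.normal_ker (pact hs hF)).eq_bot_or_eq_top with h | h
  · exact (MonoidHom.ker_eq_bot_iff _).1 h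
  · exfalso
    have h2 : QuotientGroup.mk (gen hs (show 2 < 3 by norm_num)) ∈ (pact hs hF).ker := by
      rw [h]; trivial
    have h3 := congrArg (fun p : Equiv.Perm (Fin 50) => p 0) (MonoidHom.mem_ker.1 h2)
    change act hs hF _ 0 = (0 : Fin 50) at h3
    rw [act_gen] at h3
    have : (permTab 2).getD 0 0 ≠ 0 := by decide +kernel
    exact this (congrArg Fin.val h3)

theorem pact_range (hF : Fintype.card F = 25) {H : Subgroup (Equiv.Perm (Fin 50))}
    (hgen : ∀ k (hk : k < 3), act hs hF (gen hs hk) ∈ H) : (pact hs hF).range ≤ H := by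
  rintro _ ⟨q, rfl⟩
  obtain ⟨x, rfl⟩ := QuotientGroup.mk_surjective q
  show act hs hF x ∈ H
  have hx : x ∈ top' hs := by rw [top'_eq hs hF]; trivial
  revert hx x
  intro x hx
  refine (Subgroup.closure_le (H.comap (act hs hF))).2 ?_ hx
  rintro y (rfl | rfl | rfl | rfl)
  · exact hgen 0 _
  · exact hgen 1 _
  · exact hgen 2 _
  · show act hs hF _ ∈ H
    rw [MonoidHom.mem_ker.1 (center_le_ker hs hF (?_ : el hs gens_ok.2.2 ∈ _))]
    · exact one_mem H
    · rw [Subgroup.mem_center_iff]
      intro z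
      refine mt_inj ?_
      rw [map_mul, map_mul, mt_el, toM_genZ hs, smul_mul_assoc, one_mul, mul_smul_comm, mul_one]

end CfsgLib.LocalEvenB.HSUnitary
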