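import Cfsg.Agent.Lib.Sporadic.ConwaySmallStab
import Cfsg.Agent.Lib.LocalEvenB.HSUnitary.Check

/-!
# The 352 vectors and the fifty points of a stabiliser
-/

set_option autoImplicit false

namespace CfsgLib.LocalEvenB.HSUnitary

open Cfsg CfsgLib.Sporadic.Conway CfsgLib.ThreeTrans.Leech CfsgLib.Sporadic.Lattice MulAction

/-- The root of the orbit of 352. -/
noncomputable def rootPt : ↥leechLattice := ⟨pv kRoot, pv_mem root_spec.1⟩

/-- The 352 vectors, at the standard pair. -/
noncomputable def farSet : Set ↥leechLattice := DS [(fiveElt, (24 : ℤ)), (hsElt, -16)]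

theorem rootPt_mem : rootPt ∈ farSet :=
  ⟨root_spec.2.1, by simp only [List.forall_mem_cons]
                     exact ⟨root_spec.2.2.1, root_spec.2.2.2, by simp⟩⟩

theorem far_facts : farSet.ncard = 352 ∧ Trans [fiveElt, hsElt] farSet := by
  obtain ⟨h1, h2⟩ := ds_bound (ls := [(fiveElt, (24 : ℤ)), (hsElt, -16)]) split_set.2.2 (by simp)
    [(kHs, -16)] (by simp [hsElt]) (n := 352) far_count
  obtain ⟨e1, e2, -⟩ := ds_cert far_ok [fiveElt, hsElt] rfl [(fiveElt, (24 : ℤ)), (hsElt, -16)]
    (by simp) rootPt rfl rootPt_mem h1 h2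
  exact ⟨e1, e2⟩

/-- The stabiliser. -/
noncomputable def stab : Subgroup ↥Co0 := fixGroup [rootPt, fiveElt, hsElt]

theorem card_stab : Nat.card ↥stab = 126000 := by
  have h := card_fix (f := [fiveElt, hsElt]) (ks := [(fiveElt, (24 : ℤ)), (hsElt, -16)])
    (r := rootPt) (by simp) rootPt_mem far_facts.2
  rw [card_fix_hs] at h
  have := far_facts.1
  unfold farSet at this
  rw [this] at h
  show Nat.card ↥(fixGroup [rootPt, fiveElt, hsElt]) = 126000
  omega

/-- The fifty points. -/
noncomputable def fifty : Set ↥leechLattice :=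
  DS [(fiveElt, (24 : ℤ)), (hsElt, -24), (rootPt, 16)]

/-- One of them. -/
noncomputable def pt' (i : Fin 50) : ↥leechLattice :=
  ⟨pv (pts.getD i.val 0), pv_mem (pts_spec i.val i.isLt).1⟩

theorem pt'_mem (i : Fin 50) : pt' i ∈ fifty := by
  obtain ⟨-, h1, h2, h3, h4⟩ := pts_spec i.val i.isLt
  refine ⟨h1, ?_⟩
  simp only [List.forall_mem_cons]
  exact ⟨h2, h3, h4, by simp⟩

theorem pt'_injective : Function.Injective pt' := by
  intro i j h
  have hlt : ∀ i : Fin 50, pts.getD i.val 0 < 2 ^ 96 := fun i => of_decide_eq_true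
    (List.all_eq_true.1 pts_nodup.2 i.val (List.mem_range.2 i.isLt))
  have h1 := pv_inj (hlt i) (hlt j) (congrArg Subtype.val h)
  exact Fin.ext (List.inj_on_of_nodup_map pts_nodup.1 (List.mem_range.2 i.isLt)
    (List.mem_range.2 j.isLt) h1)

theorem range_pt' : Set.range pt' = fifty := by
  obtain ⟨h1, h2⟩ := ds_bound (ls := [(fiveElt, (24 : ℤ)), (hsElt, -24), (rootPt, 16)])
    hundred_set.2.2 (by simp) [(kRoot, 16)] (by simp [rootPt]) (n := 50) pts_count
  refine Set.eq_of_subset_of_ncard_le (by rintro _ ⟨i, rfl⟩; exact pt'_mem i) ?_ h1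
  rw [Set.ncard_range_of_injective pt'_injective, Nat.card_fin]
  exact h2

theorem stab_smul_mem (g : ↥stab) {x : ↥leechLattice} (hx : x ∈ fifty) :
    (g : ↥Co0) • x ∈ fifty := by
  refine smul_mem_DS (fun p hp => ?_) hx
  have hg := mem_fixGroup.1 g.2
  simp only [List.mem_cons, List.not_mem_nil, or_false] at hp
  rcases hp with rfl | rfl | rfl <;> exact hg _ (by simp)

/-- The labelling of the fifty points. -/
noncomputable def label : Fin 50 ≃ fifty :=
  Equiv.ofBijective (fun i => ⟨pt' i, pt'_mem i⟩)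
    ⟨fun i j h => pt'_injective (congrArg Subtype.val h), fun x => by
      obtain ⟨i, hi⟩ := range_pt'.symm.le x.2
      exact ⟨i, Subtype.ext hi⟩⟩

/-- The permutation of the points by an element of the stabiliser. -/
noncomputable def perm' (g : ↥stab) : Equiv.Perm fifty where
  toFun x := ⟨(g : ↥Co0) • x.1, stab_smul_mem g x.2⟩
  invFun x := ⟨((g⁻¹ : ↥stab) : ↥Co0) • x.1, stab_smul_mem g⁻¹ x.2⟩
  left_inv x := Subtype.ext (inv_smul_smul (g : ↥Co0) x.1)
  right_inv x := Subtype.ext (smul_inv_smul (g : ↥Co0) x.1)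

/-- The permutation representation of the stabiliser. -/
noncomputable def rep : ↥stab →* Equiv.Perm (Fin 50) where
  toFun g := label.symm.permCongr (perm' g)
  map_one' := Equiv.ext fun i => by
    simp only [Equiv.permCongr_apply, Equiv.symm_symm, Equiv.Perm.one_apply]
    rw [Equiv.symm_apply_eq]
    exact Subtype.ext (one_smul _ _)
  map_mul' a b := Equiv.ext fun i => by
    simp only [Equiv.permCongr_apply, Equiv.symm_symm, Equiv.Perm.mul_apply,
      Equiv.apply_symm_apply]
    congr 1

theorem word_step {k : ℕ} (hk : k < 3) (i : Fin 50) :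
    evalWord (wordTab k) (pts.getD i.val 0) = some (pts.getD ((permTab k).getD i.val 0) 0) := by
  have hi := List.mem_range.2 i.isLt
  interval_cases k
  · exact of_decide_eq_true (List.all_eq_true.1 word_zero i.val hi)
  · exact of_decide_eq_true (List.all_eq_true.1 word_one i.val hi)
  · exact of_decide_eq_true (List.all_eq_true.1 word_two i.val hi)

theorem exists_word_elt {k : ℕ} (hk : k < 3) : ∃ g : ↥stab, ∀ i : Fin 50,
    (rep g i).val = (permTab k).getD i.val 0 := by
  have h := List.all_eq_true.1 words_valid k (List.mem_range.2 hk)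
  rw [Bool.and_eq_true] at h
  obtain ⟨g, hg⟩ := packElt (wordTab k) h.1
  have hfix : ∀ c ∈ [kFive, kHs, kRoot], ∀ v : ↥leechLattice, (v : Vec) = pv c → g • v = v :=
    fun c hc v hv => Subtype.ext ((hg c c (of_decide_eq_true (List.all_eq_true.1 h.2 c hc)) v hv).trans
      hv.symm)
  have hmem : g ∈ stab := by
    refine mem_fixGroup.2 fun v hv => ?_
    simp only [List.mem_cons, List.not_mem_nil, or_false] at hv
    rcases hv with rfl | rfl | rfl
    · exact hfix kRoot (by simp) _ rfl
    · exact hfix kFive (by simp) _ rfl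
    · exact hfix kHs (by simp) _ rfl
  refine ⟨⟨g, hmem⟩, fun i => ?_⟩
  have hlt : (permTab k).getD i.val 0 < 50 := of_decide_eq_true (List.all_eq_true.1
    (List.all_eq_true.1 perm_lt k (List.mem_range.2 hk)) i.val (List.mem_range.2 i.isLt))
  have h1 : rep ⟨g, hmem⟩ i = ⟨_, hlt⟩ := by
    show label.symm.permCongr (perm' ⟨g, hmem⟩) i = _
    rw [Equiv.permCongr_apply, Equiv.symm_apply_eq, Equiv.symm_symm]
    exact Subtype.ext (Subtype.ext (hg _ _ (word_step hk i) (pt' i) rfl))
  rw [h1]

end CfsgLib.LocalEvenB.HSUnitary
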