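import Cfsg.Agent.Lib.LocalEvenB.HSUnitary.Coset
import Cfsg.Agent.Lib.LocalEvenB.HSUnitary.Lattice

/-!
# The stabiliser is PSU₃(5)
-/

set_option autoImplicit false

namespace CfsgLib.LocalEvenB.HSUnitary

open Cfsg CfsgLib.Sporadic.Conway CfsgLib.ThreeTrans.Leech CfsgLib.Sporadic.Lattice MulAction

theorem stab_iso (F : Type) [Field F] [Fintype F] (hF : Fintype.card F = 25) :
    Nonempty (↥stab ≃* Cfsg.PSU 3 F 5) := by
  obtain ⟨hp, s, hs⟩ := CfsgLib.LocalEvenB.UnitaryFive.exists_sqrt_two hF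
  have hle : (pact hs hF).range ≤ rep.range := by
    refine pact_range hs hF fun k hk => ?_
    obtain ⟨g, hg⟩ := exists_word_elt hk
    exact ⟨g, Equiv.ext fun i => by rw [act_gen]; exact Fin.ext (hg i)⟩
  have hcard : Nat.card (pact hs hF).range = 126000 := by
    rw [← Nat.card_congr (MonoidHom.ofInjective (pact_injective hs hF)).toEquiv,
      CfsgLib.LocalEvenB.UnitaryFive.card_psu hF]
  have hfin : Finite ↥stab := Nat.finite_of_card_ne_zero (by rw [card_stab]; norm_num)
  have hsurj := rep.rangeRestrict_surjective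
  have hge : Nat.card rep.range ≤ 126000 := by
    rw [← card_stab]
    exact Nat.card_le_card_of_surjective _ hsurj
  have heq : (pact hs hF).range = rep.range :=
    Subgroup.eq_of_le_of_card_ge hle (by rw [hcard]; exact hge)
  have hbij : Function.Bijective rep.rangeRestrict :=
    hsurj.bijective_of_nat_card_le (by rw [card_stab, ← heq, hcard])
  exact ⟨((MulEquiv.ofBijective _ hbij).trans (MulEquiv.subgroupCongr heq.symm)).trans
    (MonoidHom.ofInjective (pact_injective hs hF)).symm⟩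

theorem norm_neg' (y : Vec) : sqNorm (-y) = sqNorm y := by simp [sqNorm]

theorem neg_smul_mem {x : ↥leechLattice} {v w : ↥leechLattice} {a : ↥Co0}
    (ha : a • w = fiveElt) (hb : a • v = hsElt) :
    (sqNorm (x : Vec) = 32 ∧ dotInt (v : Vec) (x : Vec) = 16 ∧ dotInt (w : Vec) (x : Vec) = -24) ↔
      -(a • x) ∈ farSet := by
  have h1 : sqNorm ((-(a • x) : ↥leechLattice) : Vec) = sqNorm (x : Vec) :=
    (norm_neg' _).trans (norm_smul' a x)
  have h2 : ∀ u u' : ↥leechLattice, a • u = u' →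
      dotInt (u' : Vec) ((-(a • x) : ↥leechLattice) : Vec) = -dotInt (u : Vec) (x : Vec) := by
    intro u u' h
    show dotInt (u' : Vec) (-((a • x : ↥leechLattice) : Vec)) = _
    rw [dot_neg_right, ← h, dot_smul']
  simp only [farSet, DS, Set.mem_ofPred_eq, List.forall_mem_cons, h1, h2 _ _ ha, h2 _ _ hb,
    List.not_mem_nil, false_imp_iff, implies_true, and_true]
  constructor <;> rintro ⟨p, q, r⟩ <;> exact ⟨p, by omega, by omega⟩

theorem hs_352 (v w : ↥leechLattice) (hv : sqNorm (v : Vec) = 48) (hw : sqNorm (w : Vec) = 48)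
    (hvw : dotInt (v : Vec) (w : Vec) = -32) (F : Type) [Field F] [Fintype F]
    (hF : Fintype.card F = 25) :
    let X := {x : ↥leechLattice | sqNorm (x : Vec) = 32 ∧ dotInt (v : Vec) (x : Vec) = 16 ∧
      dotInt (w : Vec) (x : Vec) = -24}
    X.ncard = 352 ∧ (∀ x ∈ X, -w - x ∈ X) ∧
      (∀ x ∈ X, ∀ x' ∈ X, ∃ g : ↥Co0, g • v = v ∧ g • w = w ∧ g • x = x') ∧
      ∀ x ∈ X, Nonempty (↥(stabilizer ↥Co0 v ⊓ stabilizer ↥Co0 w ⊓ stabilizer ↥Co0 x) ≃*
        Cfsg.PSU 3 F 5) := by
  intro X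
  have hcomm : ∀ p q : Vec, dotInt p q = dotInt q p := fun p q =>
    Finset.sum_congr rfl fun i _ => mul_comm _ _
  obtain ⟨a, ha, hb⟩ := to_hs hw hv ((hcomm _ _).trans hvw)
  have htr : ∀ x ∈ X, ∀ x' ∈ X, ∃ g : ↥Co0, g • v = v ∧ g • w = w ∧ g • x = x' := by
    intro x hx x' hx'
    obtain ⟨g, hg, hgf⟩ := far_facts.2 _ ((neg_smul_mem ha hb).1 hx) _ ((neg_smul_mem ha hb).1 hx')
    refine ⟨a⁻¹ * g * a, ?_, ?_, ?_⟩
    · rw [mul_smul, mul_smul, hb, hgf _ (by simp), ← hb, inv_smul_smul]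
    · rw [mul_smul, mul_smul, ha, hgf _ (by simp), ← ha, inv_smul_smul]
    · rw [smul_neg', neg_inj] at hg
      rw [mul_smul, mul_smul, hg, inv_smul_smul]
  refine ⟨?_, ?_, htr, ?_⟩
  · rw [← far_facts.1, ← Set.ncard_image_of_injective X (f := fun x => -(a • x))
      (fun x y h => MulAction.injective a (neg_injective h))]
    congr 1
    ext y
    constructor
    · rintro ⟨x, hx, rfl⟩; exact (neg_smul_mem ha hb).1 hx
    · intro hy
      refine ⟨a⁻¹ • (-y), (neg_smul_mem ha hb).2 ?_, ?_⟩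
      · rwa [smul_inv_smul, neg_neg]
      · show -(a • a⁻¹ • (-y)) = y
        rw [smul_inv_smul, neg_neg]
  · rintro x ⟨h1, h2, h3⟩
    have hn : ((-w - x : ↥leechLattice) : Vec) = -((w : Vec) + (x : Vec)) := by
      show -(w : Vec) - (x : Vec) = _
      abel
    have hd : ∀ p : Vec, dotInt p ((w : Vec) + (x : Vec)) = dotInt p (w : Vec) + dotInt p (x : Vec) :=
      fun p => by simp only [dotInt, Pi.add_apply, mul_add, Finset.sum_add_distrib]
    have hww : dotInt (w : Vec) (w : Vec) = sqNorm (w : Vec) :=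
      Finset.sum_congr rfl fun i _ => (sq _).symm
    refine ⟨?_, ?_, ?_⟩ <;> rw [hn]
    · rw [norm_neg', sq_add_dot, hw, h1, h3]; norm_num
    · rw [dot_neg_right, hd, hvw, h2]; norm_num
    · rw [dot_neg_right, hd, hww, hw, h3]; norm_num
  · intro x hx
    obtain ⟨g, hg, hgf⟩ := far_facts.2 _ ((neg_smul_mem ha hb).1 hx) rootPt rootPt_mem
    have e : stabilizer ↥Co0 v ⊓ stabilizer ↥Co0 w ⊓ stabilizer ↥Co0 x =
        stab.comap (MulAut.conj (g * a)).toMonoidHom := by
      have key : ∀ (c : ↥Co0) (u u' : ↥leechLattice), (g * a) • u = u' →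
          (((g * a) * c * (g * a)⁻¹) • u' = u' ↔ c • u = u) := by
        intro c u u' h
        subst h
        rw [mul_smul, mul_smul, inv_smul_smul, smul_left_cancel_iff]
      have e1 : (g * a) • v = hsElt := by rw [mul_smul, hb, hgf _ (by simp)]
      have e2 : (g * a) • w = fiveElt := by rw [mul_smul, ha, hgf _ (by simp)]
      have e3 : (g * a) • (-x) = rootPt := by rw [mul_smul, smul_neg', hg]
      ext c
      simp only [Subgroup.mem_inf, MulAction.mem_stabilizer_iff, Subgroup.mem_comap, stab,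
        mem_fixGroup, List.forall_mem_cons, List.not_mem_nil, false_imp_iff, implies_true,
        and_true, MulEquiv.coe_toMonoidHom, MulAut.conj_apply]
      rw [key c _ _ e1, key c _ _ e2, key c _ _ e3, smul_neg', neg_inj]
      tauto
    obtain ⟨φ⟩ := stab_iso F hF
    refine ⟨((MulEquiv.subgroupCongr e).trans ?_).trans φ⟩
    exact ((MulAut.conj (g * a)).subgroupMap _).trans
      (MulEquiv.subgroupCongr (Subgroup.map_comap_eq_self_of_surjective
        (MulAut.conj (g * a)).surjective _))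

end CfsgLib.LocalEvenB.HSUnitary
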